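import Groth.Agent.Wt.LSC
import Groth.Prelude.Def_EGA43
import Mathlib.FieldTheory.IsSepClosed
import Mathlib.RingTheory.LocalRing.ResidueField.Ideal

/-!
# The geometric number of points of a separated quasi-finite morphism

* `nGeomConnComp_eq_nPts`: for a quasi-finite morphism the geometric number of connected components of a
  fibre is the geometric number of points.
* `eventually_le`, `exists_isFinite_restrict`: semicontinuity of this number and properness where it is
  constant, for morphisms that are open after étale base change along a fibre.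
-/

universe u

open AlgebraicGeometry CategoryTheory Limits
open scoped Topology

namespace Groth.Agent.Wt12

open Groth.Agent.Wt Groth.Agent.Wt.GeomPts Groth.Agent.Wt.EtNbhd Groth.Agent.Wt.Split
  Groth.Agent.Wt.Parts Groth.Agent.Wt.Master Groth.Agent.Wt.Local

variable {X Y : Scheme.{u}}

/-- The geometric number of points of a fibre. -/
noncomputable def nPts (f : X ⟶ Y) (y : Y) : ℤ := MoreMor.fibreIntegral f (fun _ => 1) y

theorem geomInt_one {U V : Scheme.{u}} (π : U ⟶ V) {K : Type u} [Field K]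
    (yb : Spec (CommRingCat.of K) ⟶ V) [Finite (GeomFib π yb)] :
    geomInt π yb (fun _ => 1) = (Nat.card (GeomFib π yb) : ℤ) := by
  cases nonempty_fintype (GeomFib π yb)
  unfold geomInt
  rw [finsum_eq_sum_of_fintype, Finset.sum_const, Finset.card_univ, Nat.card_eq_fintype_card,
    nsmul_eq_mul, mul_one]

theorem nPts_eq_card (f : X ⟶ Y) [LocallyQuasiFinite f] (hfin : ∀ y : Y, (f ⁻¹' {y}).Finite)
    {V : Scheme.{u}} (g : V ⟶ Y) {K : Type u} [Field K] [IsAlgClosed K]
    (yb : Spec (CommRingCat.of K) ⟶ V) :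
    Finite (GeomFib (pullback.snd f g) yb) ∧
      nPts f (g (pt yb)) = Nat.card (GeomFib (pullback.snd f g) yb) := by
  obtain ⟨hF, hI⟩ := LSC.fibreIntegral_eq_geomInt f hfin (fun _ => 1) g yb
  exact ⟨hF, hI.trans (geomInt_one _ _)⟩

/-- For a quasi-finite morphism connected components of geometric fibres are points. -/
theorem nGeomConnComp_eq_card (f : X ⟶ Y) [LocallyQuasiFinite f] (y : Y) :
    MoreMor.nGeomConnComp f y = ENat.card ↥(MoreMor.geomFiber f y) := by
  haveI : LocallyQuasiFinite (f.fiberToSpecResidueField y) :=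
    inferInstanceAs (LocallyQuasiFinite (pullback.snd f (Y.fromSpecResidueField y)))
  let L := SeparableClosure (Y.residueField y)
  let q := pullback.snd (f.fiberToSpecResidueField y)
    (Spec.map (CommRingCat.ofHom (algebraMap (Y.residueField y) L)))
  have hsub : Subsingleton ↥(Spec (CommRingCat.of L)) := inferInstanceAs (Subsingleton (PrimeSpectrum L))
  haveI : DiscreteTopology ↥(MoreMor.geomFiber f y) := by
    let c : ↥(Spec (CommRingCat.of L)) := IsLocalRing.closedPoint L
    have h := Scheme.Hom.isDiscrete_preimage_singleton q c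
    have hu : q ⁻¹' {c} = Set.univ := Set.eq_univ_of_forall fun p => Subsingleton.elim _ _
    rw [hu] at h
    exact isDiscrete_univ_iff.mp h
  refine (ENat.card_congr (Equiv.ofBijective ConnectedComponents.mk
    ⟨fun a b h => ?_, ConnectedComponents.surjective_coe⟩)).symm
  have h' := connectedComponent_eq_iff_mem.mp (ConnectedComponents.coe_eq_coe.mp h)
  rwa [connectedComponent_eq_singleton, Set.mem_singleton_iff] at h'

theorem nGeomConnComp_eq_nPts (f : X ⟶ Y) [LocallyQuasiFinite f] [QuasiCompact f] (y : Y) :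
    ((MoreMor.nGeomConnComp f y : ℕ∞)) = ((nPts f y).toNat : ℕ∞) := by
  haveI hlq : LocallyQuasiFinite (f.fiberToSpecResidueField y) :=
    inferInstanceAs (LocallyQuasiFinite (pullback.snd f (Y.fromSpecResidueField y)))
  let L := SeparableClosure (Y.residueField y)
  let i := Spec.map (CommRingCat.ofHom (algebraMap (Y.residueField y) L))
  let q := pullback.snd (f.fiberToSpecResidueField y) i
  let e : Spec (CommRingCat.of L) ⟶ Y := i ≫ Y.fromSpecResidueField y
  have hsq : IsPullback (pullback.fst (f.fiberToSpecResidueField y) i ≫ f.fiberι y) q f e :=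
    (IsPullback.of_hasPullback (f.fiberToSpecResidueField y) i).paste_horiz
      (IsPullback.of_hasPullback f (Y.fromSpecResidueField y))
  have hsub : Subsingleton ↥(Spec (CommRingCat.of L)) := inferInstanceAs (Subsingleton (PrimeSpectrum L))
  have hconn := nGeomConnComp_eq_card f y
  let yb : Spec (CommRingCat.of (AlgebraicClosure L)) ⟶ Spec (CommRingCat.of L) :=
    Spec.map (CommRingCat.ofHom (algebraMap L (AlgebraicClosure L)))
  let yY := yb ≫ e
  have hy : pt yY = y := Y.fromSpecResidueField_apply y _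
  have hfin : ∀ y : Y, (f ⁻¹' {y}).Finite := fun y => f.finite_preimage_singleton y
  haveI : Finite {x : X // f x = pt yY} := (hfin _).to_subtype
  haveI := finite_geomFib f yY
  haveI : Finite (GeomFib q yb) := .of_equiv _ (baseChangeEquiv f hsq yb).symm
  haveI : LocallyQuasiFinite q := inferInstanceAs (LocallyQuasiFinite (pullback.snd _ _))
  have hbij : Function.Bijective fun x : GeomFib q yb => pt x.1 := by
    refine ⟨fun a b hab => ?_, fun p => ?_⟩
    · let p : {u : ↥(pullback (f.fiberToSpecResidueField y) i) // q u = pt yb} :=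
        ⟨pt a.1, apply_pt q yb a⟩
      have h1 : ∀ x : GeomFib q yb, pt x.1 = p.1 → ∃ l, x = (sigmaEquiv q yb).symm ⟨p, l⟩ := by
        intro x hx
        have h2 : ((sigmaEquiv q yb) x).1 = p := Subtype.ext (by
          rw [← pt_sigmaEquiv_symm q yb ((sigmaEquiv q yb) x), Equiv.symm_apply_apply]
          exact hx)
        have key : ∀ s : (Σ u : {u : ↥(pullback (f.fiberToSpecResidueField y) i) // q u = pt yb},
            Lifts q yb u), ∀ p₀, s.1 = p₀ → ∃ l, s = ⟨p₀, l⟩ := by
          rintro ⟨p₁, l⟩ p₀ rfl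
          exact ⟨l, rfl⟩
        obtain ⟨l, hl⟩ := key _ _ h2
        exact ⟨l, by rw [← hl, Equiv.symm_apply_apply]⟩
      obtain ⟨la, hla⟩ := h1 a rfl
      obtain ⟨lb, hlb⟩ := h1 b hab.symm
      haveI := (card_lifts q yb p).1
      have h3 : Nat.card (Lifts q yb p) = 1 := by
        rw [(card_lifts q yb p).2]
        letI := (q.residueFieldMap p.1).hom.toAlgebra
        haveI : Module.Finite ((Spec (CommRingCat.of L)).residueField (q p.1))
            ((pullback (f.fiberToSpecResidueField y) i).residueField p.1) :=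
          residueFieldMap_finite q p.1
        haveI : IsSepClosed ((Spec (CommRingCat.of L)).residueField (q p.1)) := by
          haveI : ((q p.1 : PrimeSpectrum L).asIdeal).IsMaximal :=
            Ideal.IsPrime.isMaximal' (q p.1 : PrimeSpectrum L).isPrime
          let φ : L →+* (Spec (CommRingCat.of L)).residueField (q p.1) :=
            (Scheme.Spec.residueFieldIso (CommRingCat.of L) (q p.1)).inv.hom.comp (algebraMap L _)
          have hφ : Function.Bijective φ := ⟨RingHom.injective φ,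
            (ConcreteCategory.bijective_of_isIso
              (Scheme.Spec.residueFieldIso (CommRingCat.of L) (q p.1)).inv).2.comp
              (Ideal.algebraMap_residueField_surjective _)⟩
          let E := RingEquiv.ofBijective φ hφ
          refine IsSepClosed.of_exists_root _ fun P hP hirr hsep => ?_
          obtain ⟨r, hr⟩ := IsSepClosed.exists_root (P.map E.symm.toRingHom) (by
            rw [Polynomial.degree_map]; exact hirr.degree_pos.ne') hsep.map
          refine ⟨E r, ?_⟩
          have := congrArg E.toRingHom (hr : (P.map E.symm.toRingHom).eval r = 0)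
          rw [Polynomial.eval_map, Polynomial.hom_eval₂, map_zero,
            RingEquiv.toRingHom_comp_symm_toRingHom] at this
          exact this
        exact IsPurelyInseparable.finSepDegree_eq_one
          ((Spec (CommRingCat.of L)).residueField (q p.1)) _
      haveI := (Nat.card_eq_one_iff_unique.mp h3).1
      rw [hla, hlb, Subsingleton.elim la lb]
    · obtain ⟨c, hc⟩ := surjective_pt q yb ⟨p, Subsingleton.elim _ _⟩
      exact ⟨c, congrArg Subtype.val hc⟩
  haveI : Finite ↥(MoreMor.geomFiber f y) := Finite.of_surjective _ hbij.2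
  rw [hconn, ENat.card_eq_coe_natCard]
  have hcard : Nat.card ↥(MoreMor.geomFiber f y) = Nat.card (GeomFib f yY) :=
    (Nat.card_congr (Equiv.ofBijective _ hbij)).symm.trans
      (Nat.card_congr (baseChangeEquiv f hsq yb))
  have h : nPts f (pt yY) = Nat.card (GeomFib f yY) := by
    rw [nPts, ← geomInt_eq_fibreIntegral f yY, geomInt_one]
  rw [hcard, ← congrArg (nPts f) hy, h, Int.toNat_natCast]

/-- Near a point along whose fibre `f` is open after étale base change, the geometric number of points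
does not drop, and where it is the same the fibre lies in finite parts. -/
theorem exists_parts (f : X ⟶ Y) [LocallyOfFiniteType f] [LocallyQuasiFinite f] [IsSeparated f]
    (hfin : ∀ y : Y, (f ⁻¹' {y}).Finite) (y : Y)
    (hopen : ∀ (V : Scheme.{u}) (g : V ⟶ Y), Etale g → ∀ z : ↥(pullback f g),
      f (pullback.fst f g z) = y → EGA43.IsOpenAt (pullback.snd f g).base z) :
    ∃ (V : Scheme.{u}) (g : V ⟶ Y) (u : V), Etale g ∧ g u = y ∧
      ∃ (J : Set ↥(pullback f g)) (W : ↥(pullback f g) → (pullback f g).Opens), J.Finite ∧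
        (∀ z ∈ J, IsFinite ((W z).ι ≫ pullback.snd f g)) ∧
        ∀ᶠ n in 𝓝 u, nPts f y ≤ nPts f (g n) ∧
          (nPts f (g n) = nPts f y → ∀ p, pullback.snd f g p = n → ∃ z ∈ J, p ∈ W z) := by
  obtain ⟨V, g, u, hg, hu, J, W, hJ, hJW, hmem⟩ :=
    Wt.Pure.exists_pureParts f y (f ⁻¹' {y}) (hfin y) (fun _ h => h) (fun x _ => f.quasiFiniteAt x)
  refine ⟨V, g, u, hg, hu, J, W, hJ, fun z hz => (hJW z hz).1.finite, ?_⟩
  let q := pullback.snd f g
  haveI : LocallyQuasiFinite q := inferInstanceAs (LocallyQuasiFinite (pullback.snd f g))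
  have hdisj := eventually_disjoint q hJ fun z hz => (hJW z hz).1
  have hcov : ∀ p, q p = u → p ∈ J := fun p hp => hmem p hp (by
    show f _ = y
    rw [← Scheme.Hom.comp_apply, pullback.condition, Scheme.Hom.comp_apply]
    exact (congrArg g hp).trans hu)
  have himg : ∀ᶠ n in 𝓝 u, ∀ z ∈ J, ∃ p ∈ W z, q p = n := by
    refine hJ.eventually_all.mpr fun z hz => ?_
    have h := hopen V g hg z (hJW z hz).2.2 (W z) ((W z).2.mem_nhds (hJW z hz).1.mem)
    rw [(hJW z hz).1.map_eq] at h
    filter_upwards [h] with n hn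
    exact hn
  have hchoice : ∀ n, (∀ z ∈ J, ∃ p ∈ W z, q p = n) →
      (∀ z ∈ J, ∀ z' ∈ J, z ≠ z' → ∀ x ∈ W z, q x = n → x ∉ W z') →
      ∀ yb : Spec (CommRingCat.of (AlgebraicClosure (V.residueField n))) ⟶ V, pt yb = n →
        ∃ c : J → GeomFib q yb, Function.Injective c ∧ ∀ z, pt (c z).1 ∈ W z.1 := by
    intro n hn hn' yb hyb
    have : ∀ z : J, ∃ x : GeomFib q yb, pt x.1 ∈ W z.1 := fun z => by
      obtain ⟨p, hpW, hp⟩ := hn z.1 z.2
      obtain ⟨c, hc⟩ := surjective_pt q yb ⟨p, hp.trans hyb.symm⟩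
      have e : pt c.1 = p := congrArg Subtype.val hc
      exact ⟨c, by rw [e]; exact hpW⟩
    choose c hc using this
    refine ⟨c, fun a b hab => ?_, hc⟩
    by_contra hne
    exact hn' a.1 a.2 b.1 b.2 (fun h => hne (Subtype.ext h)) _ (hc a)
      ((apply_pt q yb _).trans hyb) (hab ▸ hc b)
  have hy : nPts f y = Nat.card J := by
    obtain ⟨yb, hyb⟩ := exists_geomPt u
    obtain ⟨hF, hI⟩ := nPts_eq_card f hfin g yb
    rw [hyb, hu] at hI
    obtain ⟨c, hc, hcW⟩ := hchoice u himg.self_of_nhds hdisj.self_of_nhds yb hyb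
    rw [hI, ← Nat.card_congr (Equiv.ofBijective c ⟨hc, fun x => ?_⟩)]
    have hxu : q (pt x.1) = u := (apply_pt q yb x).trans hyb
    let z : J := ⟨pt x.1, hcov _ hxu⟩
    refine ⟨z, Subtype.ext ?_⟩
    have hcz : pt (c z).1 = z.1 :=
      (hJW z.1 z.2).1.unique _ (hcW z) ((apply_pt q yb _).trans hyb)
    exact (hJW z.1 z.2).2.1 _ _ _ hcz rfl ((c z).2.trans x.2.symm)
  filter_upwards [himg, hdisj] with n hn hn'
  obtain ⟨yb, hyb⟩ := exists_geomPt n
  obtain ⟨hF, hI⟩ := nPts_eq_card f hfin g yb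
  rw [hyb] at hI
  obtain ⟨c, hc, hcW⟩ := hchoice n hn hn' yb hyb
  rw [hI, hy]
  refine ⟨by exact_mod_cast Nat.card_le_card_of_injective c hc, fun he p hp => ?_⟩
  haveI := hJ.to_subtype
  have hcard : Nat.card J = Nat.card (GeomFib q yb) := by exact_mod_cast he.symm
  obtain ⟨x, hx⟩ := surjective_pt q yb ⟨p, hp.trans hyb.symm⟩
  obtain ⟨z, rfl⟩ := ((Nat.bijective_iff_injective_and_card c).mpr ⟨hc, hcard⟩).2 x
  have e : pt (c z).1 = p := congrArg Subtype.val hx
  exact ⟨z.1, z.2, by rw [← e]; exact hcW z⟩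

theorem eventually_le (f : X ⟶ Y) [LocallyOfFiniteType f] [LocallyQuasiFinite f] [IsSeparated f]
    [QuasiCompact f] (y : Y)
    (hopen : ∀ (V : Scheme.{u}) (g : V ⟶ Y), Etale g → ∀ z : ↥(pullback f g),
      f (pullback.fst f g z) = y → EGA43.IsOpenAt (pullback.snd f g).base z) :
    ∀ᶠ v in 𝓝 y, MoreMor.nGeomConnComp f y ≤ MoreMor.nGeomConnComp f v := by
  obtain ⟨V, g, u, hg, hu, J, W, -, -, hev⟩ :=
    exists_parts f (fun y => f.finite_preimage_singleton y) y hopen
  obtain ⟨N, hN, hNo, huN⟩ := mem_nhds_iff.mp hev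
  filter_upwards [(g.isOpenMap N hNo).mem_nhds ⟨u, huN, hu⟩] with v hv
  obtain ⟨n, hn, rfl⟩ := hv
  rw [nGeomConnComp_eq_nPts, nGeomConnComp_eq_nPts]
  exact_mod_cast Int.toNat_le_toNat (hN hn).1

/-- Where the geometric number of points is constant the morphism is finite. -/
theorem exists_isFinite_restrict (f : X ⟶ Y) [LocallyOfFiniteType f] [LocallyQuasiFinite f]
    [IsSeparated f] [QuasiCompact f] (y : Y)
    (hopen : ∀ (V : Scheme.{u}) (g : V ⟶ Y), Etale g → ∀ z : ↥(pullback f g),
      f (pullback.fst f g z) = y → EGA43.IsOpenAt (pullback.snd f g).base z)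
    (hc : ∃ S ∈ 𝓝 y, ∀ v ∈ S, MoreMor.nGeomConnComp f v = MoreMor.nGeomConnComp f y) :
    ∃ U : Y.Opens, y ∈ U ∧ IsFinite (f ∣_ U) := by
  have hfin : ∀ y : Y, (f ⁻¹' {y}).Finite := fun y => f.finite_preimage_singleton y
  obtain ⟨S, hS, hc⟩ := hc
  obtain ⟨S₀, hS₀, hS₀o, hyS₀⟩ := mem_nhds_iff.mp hS
  obtain ⟨V, g, u, hg, hu, J, W, hJ, hW, hev⟩ := exists_parts f hfin y hopen
  obtain ⟨M, hM, hyM, hMS⟩ := exists_isAffineOpen_mem_and_subset (x := y) (U := ⟨S₀, hS₀o⟩) hyS₀
  obtain ⟨N₀, hN₀, hN₀o, huN₀⟩ := mem_nhds_iff.mp hev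
  obtain ⟨N, hN, huN, hNsub⟩ := exists_isAffineOpen_mem_and_subset (x := u)
    (U := ⟨N₀, hN₀o⟩ ⊓ g ⁻¹ᵁ M) ⟨huN₀, show g u ∈ M from hu.symm ▸ hyM⟩
  let O' : Y.Opens := ⟨g '' N, g.isOpenMap N N.2⟩
  have hO'M : O' ≤ M := by
    rintro _ ⟨n, hn, rfl⟩
    exact (hNsub hn).2
  refine ⟨O', ⟨u, huN, hu⟩, ?_⟩
  suffices UniversallyClosed (f ∣_ O') by
    have : IsProper (f ∣_ O') := ⟨⟩
    exact .of_isProper_of_locallyQuasiFinite _
  have hr : Set.range (N.ι ≫ g) ⊆ Set.range O'.ι := by
    rw [Scheme.Opens.range_ι]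
    rintro _ ⟨n, rfl⟩
    exact ⟨_, n.2, rfl⟩
  let π := IsOpenImmersion.lift O'.ι (N.ι ≫ g) hr
  have hπ : π ≫ O'.ι = N.ι ≫ g := IsOpenImmersion.lift_fac _ _ _
  have : Etale (π ≫ O'.ι) := hπ ▸ inferInstance
  have : Etale π := MorphismProperty.of_postcomp (W := @Etale) (W' := @Etale) π O'.ι
    inferInstance inferInstance
  have : Surjective π := ⟨fun x => by
    obtain ⟨n, hn, e⟩ := x.2
    exact ⟨(⟨n, hn⟩ : ↥N.toScheme), O'.ι.isOpenEmbedding.injective
      ((congr($(hπ) (⟨n, hn⟩ : ↥N.toScheme))).trans e)⟩⟩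
  have : IsAffine M := hM
  have : IsAffine N := hN
  have : QuasiCompact (π ≫ Y.homOfLE hO'M) := inferInstance
  have : QuasiCompact π := QuasiCompact.of_comp π (Y.homOfLE hO'M)
  refine MorphismProperty.of_pullback_snd_of_descendsAlong (P := @UniversallyClosed)
    (Q := @Surjective ⊓ @Flat ⊓ @QuasiCompact) (f := f ∣_ O') (g := π)
    ⟨⟨inferInstance, inferInstance⟩, inferInstance⟩ ?_
  let q := pullback.snd f g
  have h₁ : IsPullback (pullback.fst (f ∣_ O') π ≫ (f ⁻¹ᵁ O').ι) (pullback.snd (f ∣_ O') π) f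
      (N.ι ≫ g) := by
    rw [← hπ]
    exact (IsPullback.of_hasPullback (f ∣_ O') π).paste_horiz
      (isPullback_morphismRestrict f O').flip
  let a := pullback.lift (f := f) (g := g) _ (pullback.snd (f ∣_ O') π ≫ N.ι)
    (h₁.w.trans (Category.assoc _ _ _).symm)
  have h₂ : IsPullback a (pullback.snd (f ∣_ O') π) q N.ι := by
    refine .of_right ?_ (pullback.lift_snd _ _ _) (IsPullback.of_hasPullback f g)
    rw [pullback.lift_fst]
    exact h₁
  refine LSC.universallyClosed_of_finite_parts _ J hJ (fun z => a ⁻¹ᵁ W z)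
    (fun z hz => isFinite_preimage _ h₂ _ (hW z hz)) fun p => ?_
  have hap : q (a p) = N.ι (pullback.snd (f ∣_ O') π p) := by
    rw [← Scheme.Hom.comp_apply, h₂.w, Scheme.Hom.comp_apply]
  have hnN := (pullback.snd (f ∣_ O') π p).2
  refine (hN₀ (hNsub hnN).1).2 ?_ (a p) hap
  have h1 := (hN₀ (hNsub hnN).1).1
  have h2 := hc _ (hS₀ (hMS (hNsub hnN).2))
  rw [nGeomConnComp_eq_nPts, nGeomConnComp_eq_nPts, Nat.cast_inj] at h2
  have h3 : 0 ≤ nPts f y := by
    obtain ⟨yb, hyb⟩ := exists_geomPt y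
    haveI : Finite {x : X // f x = pt yb} := (hfin _).to_subtype
    haveI := finite_geomFib f yb
    rw [nPts, ← hyb, ← geomInt_eq_fibreIntegral f yb, geomInt_one]
    exact Int.natCast_nonneg _
  omega

end Groth.Agent.Wt12
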