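import Groth.Agent.Wt12.Count
import Groth.Agent.EtStruct.UnibranchGlobal
import Groth.Agent.EtStruct.UnibranchEtale

/-!
# Components of quasi-finite universally open schemes over geometrically unibranch bases

* `exists_parts_unique`: where the geometric number of points is unchanged each finite part has one point.
* `eq_of_maximal_specializes`: maximal generizations are unique on étale schemes over geometrically
  unibranch points.
-/

universe u

open AlgebraicGeometry CategoryTheory Limits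
open scoped Topology

namespace Groth.Agent.Wt12

open Groth.Agent.Wt Groth.Agent.Wt.GeomPts Groth.Agent.Wt.EtNbhd Groth.Agent.Wt.Split
  Groth.Agent.Wt.Parts Groth.Agent.Wt.Master Groth.Agent.Wt.Local

variable {X Y : Scheme.{u}}

theorem exists_parts_unique (f : X ⟶ Y) [LocallyOfFiniteType f] [LocallyQuasiFinite f] [IsSeparated f]
    (hfin : ∀ y : Y, (f ⁻¹' {y}).Finite) (y : Y)
    (hopen : ∀ (V : Scheme.{u}) (g : V ⟶ Y), Etale g → ∀ z : ↥(pullback f g),
      f (pullback.fst f g z) = y → EGA43.IsOpenAt (pullback.snd f g).base z) :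
    ∃ (V : Scheme.{u}) (g : V ⟶ Y) (u : V), Etale g ∧ g u = y ∧
      ∃ (W : ↥(pullback f g) → (pullback f g).Opens),
        (∀ p, pullback.snd f g p = u → p ∈ W p) ∧
        ∀ᶠ n in 𝓝 u, nPts f (g n) = nPts f y → ∀ z, pullback.snd f g z = u → ∀ p ∈ W z, ∀ p' ∈ W z,
          pullback.snd f g p = n → pullback.snd f g p' = n → p = p' := by
  obtain ⟨V, g, u, hg, hu, J, W, hJ, hJW, hmem⟩ :=
    Wt.Pure.exists_pureParts f y (f ⁻¹' {y}) (hfin y) (fun _ h => h) (fun x _ => f.quasiFiniteAt x)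
  let q := pullback.snd f g
  haveI : LocallyQuasiFinite q := inferInstanceAs (LocallyQuasiFinite (pullback.snd f g))
  have hdisj := eventually_disjoint q hJ fun z hz => (hJW z hz).1
  have hcov : ∀ p, q p = u → p ∈ J := fun p hp => hmem p hp (by
    show f _ = y
    rw [← Scheme.Hom.comp_apply, pullback.condition, Scheme.Hom.comp_apply]
    exact (congrArg g hp).trans hu)
  refine ⟨V, g, u, hg, hu, W, fun p hp => (hJW p (hcov p hp)).1.mem, ?_⟩
  have himg : ∀ᶠ n in 𝓝 u, ∀ z ∈ J, ∃ p ∈ W z, q p = n := by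
    refine hJ.eventually_all.mpr fun z hz => ?_
    have h := hopen V g hg z (hJW z hz).2.2 (W z) ((W z).2.mem_nhds (hJW z hz).1.mem)
    rw [(hJW z hz).1.map_eq] at h
    filter_upwards [h] with n hn
    exact hn
  have hchoice : ∀ n, (∀ z ∈ J, ∃ p ∈ W z, q p = n) →
      (∀ z ∈ J, ∀ z' ∈ J, z ≠ z' → ∀ x ∈ W z, q x = n → x ∉ W z') →
      ∀ yb : Spec (CommRingCat.of (AlgebraicClosure (V.residueField n))) ⟶ V, pt yb = n →
        ∃ c : J → GeomFib q yb, Function.Injective c ∧ ∀ z, pt (c z).1 ∈ W z.1 := by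
    intro n hn hn' yb hyb
    have : ∀ z : J, ∃ x : GeomFib q yb, pt x.1 ∈ W z.1 := fun z => by
      obtain ⟨p, hpW, hp⟩ := hn z.1 z.2
      obtain ⟨c, hc⟩ := surjective_pt q yb ⟨p, hp.trans hyb.symm⟩
      have e : pt c.1 = p := congrArg Subtype.val hc
      exact ⟨c, by rw [e]; exact hpW⟩
    choose c hc using this
    refine ⟨c, fun a b hab => ?_, hc⟩
    by_contra hne
    exact hn' a.1 a.2 b.1 b.2 (fun h => hne (Subtype.ext h)) _ (hc a)
      ((apply_pt q yb _).trans hyb) (hab ▸ hc b)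
  have hy : nPts f y = Nat.card J := by
    obtain ⟨yb, hyb⟩ := exists_geomPt u
    obtain ⟨hF, hI⟩ := nPts_eq_card f hfin g yb
    rw [hyb, hu] at hI
    obtain ⟨c, hc, hcW⟩ := hchoice u himg.self_of_nhds hdisj.self_of_nhds yb hyb
    rw [hI, ← Nat.card_congr (Equiv.ofBijective c ⟨hc, fun x => ?_⟩)]
    have hxu : q (pt x.1) = u := (apply_pt q yb x).trans hyb
    let z : J := ⟨pt x.1, hcov _ hxu⟩
    refine ⟨z, Subtype.ext ?_⟩
    have hcz : pt (c z).1 = z.1 :=
      (hJW z.1 z.2).1.unique _ (hcW z) ((apply_pt q yb _).trans hyb)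
    exact (hJW z.1 z.2).2.1 _ _ _ hcz rfl ((c z).2.trans x.2.symm)
  filter_upwards [himg, hdisj] with n hn hn' he z₀ hz₀ p hpW p' hpW' hp hp'
  obtain ⟨yb, hyb⟩ := exists_geomPt n
  obtain ⟨hF, hI⟩ := nPts_eq_card f hfin g yb
  rw [hyb] at hI
  obtain ⟨c, hc, hcW⟩ := hchoice n hn hn' yb hyb
  haveI := hJ.to_subtype
  have hcard : Nat.card J = Nat.card (GeomFib q yb) := by
    have := hy.symm.trans (he.symm.trans hI)
    exact_mod_cast this
  have key : ∀ p₁, p₁ ∈ W z₀ → q p₁ = n → p₁ = pt (c ⟨z₀, hcov _ hz₀⟩).1 := by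
    intro p₁ h1 h2
    obtain ⟨x, hx⟩ := surjective_pt q yb ⟨p₁, h2.trans hyb.symm⟩
    obtain ⟨z, rfl⟩ := ((Nat.bijective_iff_injective_and_card c).mpr ⟨hc, hcard⟩).2 x
    have e : pt (c z).1 = p₁ := congrArg Subtype.val hx
    by_cases hz : z.1 = z₀
    · rw [← e]
      congr
      exact Subtype.ext hz
    · exact absurd h1 (hn' z.1 z.2 z₀ (hcov _ hz₀) hz p₁ (e ▸ hcW z) h2)
  rw [key p hpW hp, key p' hpW' hp']

/-- Maximal generizations are unique on étale schemes over geometrically unibranch points. -/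
theorem eq_of_maximal_specializes {V : Scheme.{u}} (g : V ⟶ Y) [Etale g] (u : V)
    (hY : CAlg2.IsGeomUnibranch (Y.presheaf.stalk (g u))) (η η' : V)
    (h : η ⤳ u) (h' : η' ⤳ u) (hmax : ∀ w, w ⤳ η → w = η) (hmax' : ∀ w, w ⤳ η' → w = η') :
    η = η' := by
  let I := Scheme.IdealSheafData.vanishingIdeal (⊤ : TopologicalSpace.Closeds Y)
  let ι := I.subschemeι
  have hsurj : Function.Surjective ι := Set.range_eq_univ.mp
    (RedSub.range_vanishingIdeal_subschemeι (⊤ : TopologicalSpace.Closeds Y))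
  haveI : Surjective ι := ⟨hsurj⟩
  let a := pullback.fst g ι
  have hemb : Topology.IsEmbedding a := (pullback.fst g ι).isEmbedding
  have hs : Function.Surjective a := (pullback.fst g ι).surjective
  obtain ⟨u', rfl⟩ := hs u
  obtain ⟨e, rfl⟩ := hs η
  obtain ⟨e', rfl⟩ := hs η'
  rw [hemb.isInducing.specializes_iff] at h h'
  let b := pullback.snd g ι
  have hb : ι (b u') = g (a u') := by
    rw [← Scheme.Hom.comp_apply, ← pullback.condition, Scheme.Hom.comp_apply]
  obtain ⟨hdom, hgu⟩ := EtStruct.isGeomUnibranch_of_surjective (ι.stalkMap (b u')).hom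
    (ι.stalkMap_surjective _) (EtStruct.ker_stalkMap_eq_nilradical ι hsurj _) (by rw [hb]; exact hY)
  obtain ⟨hd, -, -⟩ := EtStruct.isGeomUnibranch_stalk_of_etale b u'
    ⟨⊤, trivial, MorphismProperty.comp_mem @Etale _ _ inferInstance inferInstance⟩ hdom hgu
  have huniq := (SchPoints.isPrime_nilradical_stalk_iff u').mp
    (by rw [nilradical_eq_zero]; exact Ideal.isPrime_bot)
  have hc : ∀ d, (∀ w, w ⤳ a d → w = a d) → closure {d} ∈ irreducibleComponents ↥(pullback g ι) :=
    fun d hd => (EtStruct.closure_mem_irreducibleComponents_iff _).mpr fun w hw =>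
      hemb.injective (hd _ (hw.map a.continuous))
  have he := huniq _ (hc e hmax) _ (hc e' hmax') (specializes_iff_mem_closure.mp h) (specializes_iff_mem_closure.mp h')
  have h1 : e ⤳ e' := specializes_iff_mem_closure.mpr (he ▸ subset_closure rfl)
  exact hmax' _ (h1.map a.continuous)

/-- An open map with finite fibres lifts generizations. -/
theorem exists_lift_specializes {S T : Type*} [TopologicalSpace S] [TopologicalSpace T] {q : S → T}
    (hq : IsOpenMap q) (hfin : ∀ t, (q ⁻¹' {t}).Finite) {p : S} {t : T} (h : t ⤳ q p) :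
    ∃ s, s ⤳ p ∧ q s = t := by
  by_contra! hne
  have hU : ∀ s ∈ q ⁻¹' {t}, ∀ᶠ w in 𝓝 p, w ≠ s := fun s hs => by
    obtain ⟨O, hO, hpO, hsO⟩ := not_specializes_iff_exists_open.mp fun h => hne s h hs
    exact Filter.eventually_of_mem (hO.mem_nhds hpO) fun w hw hws => hsO (hws ▸ hw)
  obtain ⟨O, hO, hOo, hpO⟩ := mem_nhds_iff.mp ((hfin t).eventually_all.mpr hU)
  obtain ⟨w, hwO, rfl⟩ := h.mem_open (hq O hOo) ⟨p, hpO, rfl⟩
  exact hO hwO w rfl rfl

end Groth.Agent.Wt12
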